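import Mathlib
import Cfsg.Agent.Lib.Helper12.GL2Enum

set_option autoImplicit false

namespace Cfsg.Agent.Lib.Helper12.GL2

variable {p : ℕ} [Fact p.Prime]

local notation "GL2" => Matrix.GeneralLinearGroup (Fin 2) (ZMod p)

theorem card_le_of_semiregular (H : Subgroup GL2)
    (hsemi : ∀ h ∈ H, ∀ v : Fin 2 → ZMod p, v ≠ 0 →
      (h : Matrix (Fin 2) (Fin 2) (ZMod p)).mulVec v = v → h = 1) :
    Nat.card H ≤ p ^ 2 - 1 := by
  classical
  let v : Fin 2 → ZMod p := ![1, 0]
  have hv : v ≠ 0 := by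
    intro h
    have := congrFun h 0
    simp [v] at this
  have hne : ∀ h : GL2, (h : Matrix (Fin 2) (Fin 2) (ZMod p)).mulVec v ≠ 0 := by
    intro h h0
    apply hv
    have := congrArg ((h⁻¹ : GL2) : Matrix (Fin 2) (Fin 2) (ZMod p)).mulVec h0
    rw [Matrix.mulVec_mulVec, ← Units.val_mul, inv_mul_cancel, Units.val_one, Matrix.one_mulVec,
      Matrix.mulVec_zero] at this
    exact this
  let φ : H → {w : Fin 2 → ZMod p // w ≠ 0} := fun h => ⟨_, hne h.1⟩
  have hinj : Function.Injective φ := by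
    intro h h' e
    have e' : ((h : GL2) : Matrix (Fin 2) (Fin 2) (ZMod p)).mulVec v =
        ((h' : GL2) : Matrix (Fin 2) (Fin 2) (ZMod p)).mulVec v := congrArg Subtype.val e
    have h1 : (((h' : GL2)⁻¹ * (h : GL2) : GL2) : Matrix (Fin 2) (Fin 2) (ZMod p)).mulVec v = v := by
      rw [Units.val_mul, ← Matrix.mulVec_mulVec, e', Matrix.mulVec_mulVec, ← Units.val_mul,
        inv_mul_cancel, Units.val_one, Matrix.one_mulVec]
    have h2 := hsemi _ (H.mul_mem (H.inv_mem h'.2) h.2) v hv h1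
    rw [inv_mul_eq_one] at h2
    exact Subtype.ext h2.symm
  have := Nat.card_le_card_of_injective φ hinj
  refine this.trans (le_of_eq ?_)
  rw [Nat.card_eq_fintype_card, Fintype.card_subtype_compl, Fintype.card_fun,
      ZMod.card, Fintype.card_fin]
  simp

end Cfsg.Agent.Lib.Helper12.GL2
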