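import Mathlib
import Cfsg.Agent.Lib.Helper19.ZassCoord

set_option autoImplicit false

/-! Groups with an abelian regular normal subgroup `N` on which an abelian subgroup `T` of a point
stabiliser, normal in the point stabiliser, acts transitively (on `N \ 1`): they are groups of
semiaffine maps of a finite field. -/

namespace Cfsg.Agent.Lib.Helper12.SemiAff

open MulAction Cfsg.Agent.Lib.Helper19

theorem ringEquiv_of_semilinear {F : Type*} [Field F] [Finite F] (φ : F → F)
    (hadd : ∀ a b, φ (a + b) = φ a + φ b) (hinj : Function.Injective φ)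
    (hmul : ∀ k : F, k ≠ 0 → ∃ k' : F, ∀ a, φ (k * a) = k' * φ a) :
    ∃ (c : Fˣ) (ψ : F ≃+* F), ∀ a, φ a = c * ψ a := by
  have h0 : φ 0 = 0 := by
    have := hadd 0 0
    rw [add_zero] at this
    exact left_eq_add.mp this
  have hc : φ 1 ≠ 0 := by
    rw [← h0]
    exact fun h => one_ne_zero (hinj h)
  have hmul' : ∀ k a : F, φ (k * a) * φ 1 = φ k * φ a := by
    intro k a
    by_cases hk : k = 0
    · rw [hk, zero_mul, h0, zero_mul, zero_mul]
    obtain ⟨k', hk'⟩ := hmul k hk
    have h1 := hk' 1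
    rw [mul_one] at h1
    rw [hk' a, h1]
    ring
  let ψ₀ : F →+* F :=
    { toFun := fun a => (φ 1)⁻¹ * φ a
      map_one' := inv_mul_cancel₀ hc
      map_mul' := by
        intro a b
        have := hmul' a b
        field_simp
        linear_combination this
      map_zero' := by rw [h0, mul_zero]
      map_add' := by
        intro a b
        rw [hadd, mul_add] }
  have hψinj : Function.Injective ψ₀ := ψ₀.injective
  have hψbij : Function.Bijective ψ₀ := Finite.injective_iff_bijective.mp hψinj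
  refine ⟨Units.mk0 (φ 1) hc, RingEquiv.ofBijective ψ₀ hψbij, fun a => ?_⟩
  change φ a = φ 1 * ((φ 1)⁻¹ * φ a)
  rw [mul_inv_cancel_left₀ hc]

theorem card_ringAut (F : Type*) [Field F] [Fintype F] (p : ℕ) [Fact p.Prime] [CharP F p] (k : ℕ)
    (h : Fintype.card F = p ^ k) : Nat.card (RingAut F) = k := by
  letI := ZMod.algebra F p
  have e : RingAut F ≃ (F ≃ₐ[ZMod p] F) :=
    { toFun := fun φ => AlgEquiv.ofRingEquiv (f := φ) (fun r => by
        have : ((φ : F →+* F).comp (algebraMap (ZMod p) F)) = algebraMap (ZMod p) F :=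
          Subsingleton.elim _ _
        exact DFunLike.congr_fun this r)
      invFun := fun ψ => ψ.toRingEquiv
      left_inv := fun φ => by ext; rfl
      right_inv := fun ψ => by ext; rfl }
  rw [Nat.card_congr e, IsGalois.card_aut_eq_finrank]
  have h1 := FiniteField.pow_finrank_eq_card p F
  rw [h] at h1
  exact Nat.pow_right_injective (Fact.out : p.Prime).two_le h1

theorem exists_semiaffine {G X : Type*} [Group G] [Finite G] [MulAction G X] [FaithfulSMul G X]
    (N T : Subgroup G) (oI : X) (hNn : N.Normal)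
    (hNc : ∀ s ∈ N, ∀ t ∈ N, s * t = t * s)
    (hNtrans : ∀ x : X, ∃ n ∈ N, n • oI = x)
    (hNfree : ∀ n ∈ N, n • oI = oI → n = 1)
    (hTc : ∀ s ∈ T, ∀ t ∈ T, s * t = t * s)
    (hTnorm : ∀ g : G, g • oI = oI → ∀ t ∈ T, g * t * g⁻¹ ∈ T)
    (e : G) (heN : e ∈ N) (he1 : e ≠ 1)
    (hTreg : ∀ n ∈ N, n ≠ 1 → ∃ t ∈ T, t * e * t⁻¹ = n) :
    ∃ (F : Type) (_ : Field F) (_ : Fintype F) (ε : X ≃ F), Fintype.card F = Nat.card N ∧
      (∀ n ∈ N, ∀ m : ℕ, n ^ m = 1 → n ≠ 1 → (m : F) = 0) ∧
      (∀ g : G, ∃ (a : Fˣ) (b : F) (φ : F ≃+* F), ∀ x, ε (g • x) = a * φ (ε x) + b) ∧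
      Nat.card ↥(stabilizer G oI ⊓ stabilizer G (e • oI)) ∣ Nat.card (RingAut F) := by
  classical
  obtain ⟨F, iF, iFt, τ, hτN, hτsurj, hτinj, hτadd, hτ1, hτT, hcardF⟩ :=
    exists_field_coord N T hNc hTc (fun t _ n hn => hNn.conj_mem n hn t) e heN he1 hTreg
  have hτ0 : τ 0 = 1 := by
    have := hτadd 0 0
    rw [add_zero] at this
    exact (mul_eq_left.mp this.symm)
  let γ : F → X := fun a => τ a • oI
  have hγinj : Function.Injective γ := by
    intro a b hab
    have h1 : ((τ b)⁻¹ * τ a) • oI = oI := by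
      rw [mul_smul]
      change (τ b)⁻¹ • γ a = oI
      rw [hab, inv_smul_smul]
    have h2 := hNfree _ (mul_mem (inv_mem (hτN b)) (hτN a)) h1
    exact hτinj (inv_mul_eq_one.mp h2).symm
  have hγsurj : Function.Surjective γ := by
    intro x
    obtain ⟨n, hn, rfl⟩ := hNtrans x
    obtain ⟨a, rfl⟩ := hτsurj n hn
    exact ⟨a, rfl⟩
  let ε : X ≃ F := (Equiv.ofBijective γ ⟨hγinj, hγsurj⟩).symm
  have hε : ∀ a : F, ε (τ a • oI) = a := fun a =>
    (Equiv.ofBijective γ ⟨hγinj, hγsurj⟩).symm_apply_apply a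
  have hε' : ∀ x : X, τ (ε x) • oI = x := fun x =>
    (Equiv.ofBijective γ ⟨hγinj, hγsurj⟩).apply_symm_apply x
  -- conjugation by elements of the point stabiliser
  have hconj : ∀ s : G, s • oI = oI → ∃ (c : Fˣ) (ψ : F ≃+* F), ∀ a, s * τ a * s⁻¹ = τ (c * ψ a) := by
    intro s hs
    choose φ hφ using fun a : F => hτsurj _ (hNn.conj_mem (τ a) (hτN a) s)
    have hadd : ∀ a b, φ (a + b) = φ a + φ b := by
      intro a b
      apply hτinj
      rw [hτadd, hφ, hφ, hφ, hτadd]
      group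
    have hinj : Function.Injective φ := by
      intro a b hab
      apply hτinj
      have h1 := hφ a
      rw [hab, hφ b] at h1
      have h2 : s * τ b = s * τ a := mul_right_cancel h1
      exact (mul_left_cancel h2).symm
    have hmul : ∀ k : F, k ≠ 0 → ∃ k' : F, ∀ a, φ (k * a) = k' * φ a := by
      intro k hk
      have hτk : τ k ≠ 1 := by
        rw [← hτ0]; exact fun h => hk (hτinj h)
      obtain ⟨t, ht, hte⟩ := hTreg (τ k) (hτN k) hτk
      obtain ⟨k₁, _, hk₁⟩ := hτT t ht
      have hkk : k₁ = k := by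
        have := hk₁ 1
        rw [hτ1, hte, mul_one] at this
        exact (hτinj this).symm
      subst hkk
      obtain ⟨k', _, hk'⟩ := hτT _ (hTnorm s hs t ht)
      refine ⟨k', fun a => ?_⟩
      apply hτinj
      rw [hφ, ← hk₁, ← hk', hφ]
      group
    obtain ⟨c, ψ, hcψ⟩ := ringEquiv_of_semilinear φ hadd hinj hmul
    exact ⟨c, ψ, fun a => by rw [← hcψ, hφ]⟩
  refine ⟨F, iF, iFt, ε, hcardF, ?_, ?_, ?_⟩
  · intro n hn m hnm hn1
    obtain ⟨a, rfl⟩ := hτsurj n hn
    have ha : a ≠ 0 := by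
      rintro rfl
      exact hn1 hτ0
    have hpow : ∀ j : ℕ, τ a ^ j = τ (j * a) := by
      intro j
      induction j with
      | zero => simp [hτ0]
      | succ j ih => rw [pow_succ, ih, ← hτadd]; congr 1; push_cast; ring
    rw [hpow, ← hτ0] at hnm
    exact (mul_eq_zero.mp (hτinj hnm)).resolve_right ha
  · intro g
    obtain ⟨n, hn, hng⟩ := hNtrans (g • oI)
    obtain ⟨b, rfl⟩ := hτsurj n hn
    have hs : ((τ b)⁻¹ * g) • oI = oI := by
      rw [mul_smul, ← hng, inv_smul_smul]
    obtain ⟨c, ψ, hcψ⟩ := hconj _ hs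
    refine ⟨c, b, ψ, fun x => ?_⟩
    have h1 : g • x = τ (c * ψ (ε x) + b) • oI := by
      rw [add_comm, hτadd, ← hcψ]
      nth_rewrite 1 [← hε' x]
      nth_rewrite 2 [← hs]
      simp only [← mul_smul]
      congr 1
      group
    rw [h1, hε]
  · set D : Subgroup G := stabilizer G oI ⊓ stabilizer G (e • oI) with hD
    have hDI : ∀ s : D, (s : G) • oI = oI := fun s => (Subgroup.mem_inf.mp s.2).1
    have hDe : ∀ s : D, (s : G) * e * (s : G)⁻¹ = e := by
      intro s
      have h1 : (s : G) • e • oI = e • oI := (Subgroup.mem_inf.mp s.2).2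
      have h2 : (e⁻¹ * ((s : G) * e * (s : G)⁻¹)) • oI = oI := by
        have : (s : G)⁻¹ • oI = oI := by rw [inv_smul_eq_iff, hDI s]
        rw [mul_smul, mul_smul, mul_smul, this, h1, inv_smul_smul]
      have := hNfree _ (N.mul_mem (N.inv_mem heN) (hNn.conj_mem e heN s)) h2
      exact (inv_mul_eq_one.mp this).symm
    have hex : ∀ s : D, ∃ ψ : RingAut F, ∀ a, (s : G) * τ a * (s : G)⁻¹ = τ (ψ a) := by
      intro s
      obtain ⟨c, ψ, hcψ⟩ := hconj s (hDI s)
      have hc : (c : F) = 1 := by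
        have := hcψ 1
        rw [hτ1, hDe s, map_one, mul_one, ← hτ1] at this
        exact (hτinj this).symm
      exact ⟨ψ, fun a => by rw [hcψ, hc, one_mul]⟩
    choose Ψ hΨ using hex
    let ΨH : D →* RingAut F := MonoidHom.mk' Ψ (by
      intro s s'
      ext a
      apply hτinj
      rw [← hΨ, RingAut.mul_apply, ← hΨ, ← hΨ, Subgroup.coe_mul]
      group)
    apply Subgroup.card_dvd_of_injective ΨH
    rw [injective_iff_map_eq_one]
    intro s hs
    have hs' : Ψ s = 1 := hs
    apply Subtype.ext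
    apply FaithfulSMul.eq_of_smul_eq_smul (α := X)
    intro x
    rw [Subgroup.coe_one, one_smul]
    have h1 := hΨ s (ε x)
    rw [hs', RingAut.one_apply, mul_inv_eq_iff_eq_mul] at h1
    rw [← hε' x, ← mul_smul, h1, mul_smul, hDI s]

end Cfsg.Agent.Lib.Helper12.SemiAff
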