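import Mathlib

set_option autoImplicit false

/-! Piece S1 of S3811 (soft subgroups): the normalizer of the normalizer has index `p`. -/

namespace Cfsg.Agent.Lib.Helper12.Soft

open Subgroup

lemma mem_normalizer_of_forall {P : Type*} [Group P] [Finite P] (H : Subgroup P) (g : P)
    (h : ∀ x ∈ H, g * x * g⁻¹ ∈ H) : g ∈ normalizer (H : Set P) := by
  have hle : H.map (MulAut.conj g).toMonoidHom ≤ H := by
    rintro _ ⟨x, hx, rfl⟩
    exact h x hx
  have hcard : Nat.card (H.map (MulAut.conj g).toMonoidHom) = Nat.card H :=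
    Subgroup.card_map_of_injective (MulAut.conj g).injective
  have heq : H.map (MulAut.conj g).toMonoidHom = H := Subgroup.eq_of_le_of_card_ge hle hcard.ge
  rw [Subgroup.mem_normalizer_iff]
  intro x
  refine ⟨h x, fun hx => ?_⟩
  rw [← heq] at hx
  obtain ⟨y, hy, hyx⟩ := hx
  have : y = x := (MulAut.conj g).injective hyx
  exact this ▸ hy

open Classical in
/-- the elements of a subgroup as a finset -/
noncomputable def fs {P : Type*} [Group P] [Fintype P] (H : Subgroup P) : Finset P :=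
  Finset.univ.filter (· ∈ H)

lemma mem_fs {P : Type*} [Group P] [Fintype P] (H : Subgroup P) (x : P) : x ∈ fs H ↔ x ∈ H := by
  simp [fs]

lemma card_fs {P : Type*} [Group P] [Fintype P] (H : Subgroup P) : (fs H).card = Nat.card H := by
  classical
  rw [Nat.card_eq_fintype_card, fs]
  exact (Fintype.card_subtype _).symm

lemma arith_aux (p m e z : ℕ) (hp : 2 ≤ p) (hz : 0 < z) (hez : 2 * z ≤ e)
    (h : m * (e - z) ≤ p * e - z) : m < p ^ 2 := by
  by_contra hcon
  push Not at hcon
  obtain ⟨d, rfl⟩ : ∃ d, e = z + d := ⟨e - z, by omega⟩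
  have hd : z ≤ d := by omega
  rw [Nat.add_sub_cancel_left] at h
  have h1 : p ^ 2 * d ≤ m * d := Nat.mul_le_mul_right d hcon
  have h2 : p * (z + d) - z ≤ p * (z + d) := Nat.sub_le _ _
  have h3 : p ^ 2 * d + z ≤ p * (z + d) := by
    have : z ≤ p * (z + d) := by nlinarith
    omega
  nlinarith

theorem relIndex_normalizer_normalizer {P : Type*} [Group P] [Finite P] (p : ℕ) [Fact p.Prime]
    (hP : IsPGroup p P) (E : Subgroup P)
    (hcomm : ∀ a ∈ E, ∀ b ∈ E, a * b = b * a)
    (hcent : Subgroup.centralizer (E : Set P) ≤ E)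
    (hidx : E.relIndex (Subgroup.normalizer (E : Set P)) = p)
    (hne : Subgroup.normalizer (E : Set P) ≠ ⊤) :
    (Subgroup.normalizer (E : Set P)).relIndex
      (Subgroup.normalizer ((Subgroup.normalizer (E : Set P) : Subgroup P) : Set P)) = p := by
  classical
  have hp : p.Prime := Fact.out
  letI : Fintype P := Fintype.ofFinite P
  set N1 := normalizer (E : Set P) with hN1
  set N2 := normalizer (N1 : Set P) with hN2
  have hEN1 : E ≤ N1 := Subgroup.le_normalizer
  have hN12 : N1 ≤ N2 := Subgroup.le_normalizer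
  set Z0 : Subgroup P := N1 ⊓ centralizer (N1 : Set P) with hZ0
  have hZ0E : Z0 ≤ E := by
    intro z hz
    apply hcent
    exact Subgroup.centralizer_le hEN1 (Subgroup.mem_inf.1 hz).2
  have hconjN1 : ∀ g ∈ N2, ∀ x, x ∈ N1 ↔ g * x * g⁻¹ ∈ N1 := fun g hg =>
    Subgroup.mem_normalizer_iff.1 hg
  -- Z0 is normalized by N2
  have hZ0conj : ∀ g ∈ N2, ∀ z ∈ Z0, g * z * g⁻¹ ∈ Z0 := by
    intro g hg z hz
    obtain ⟨hz1, hz2⟩ := Subgroup.mem_inf.1 hz
    refine Subgroup.mem_inf.2 ⟨(hconjN1 g hg z).1 hz1, ?_⟩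
    rw [Subgroup.mem_centralizer_iff] at hz2 ⊢
    intro y hy
    have hy' : g⁻¹ * y * g ∈ N1 := by
      have := (hconjN1 g⁻¹ (N2.inv_mem hg) y).1 hy
      rwa [inv_inv] at this
    have := hz2 _ hy'
    calc y * (g * z * g⁻¹) = g * ((g⁻¹ * y * g) * z) * g⁻¹ := by group
      _ = g * (z * (g⁻¹ * y * g)) * g⁻¹ := by rw [this]
      _ = g * z * g⁻¹ * y := by group
  -- (F3)
  have hF3 : ∀ h ∈ N2, h ∉ N1 → ∀ e ∈ E, h * e * h⁻¹ ∈ E → h * e * h⁻¹ ∈ Z0 := by
    intro h hh hh1 e he hhe
    set Eh := E.map (MulAut.conj h).toMonoidHom with hEh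
    have hEhN1 : Eh ≤ N1 := by
      rintro _ ⟨x, hx, rfl⟩
      exact (hconjN1 h hh x).1 (hEN1 hx)
    have hnle : ¬ Eh ≤ E := by
      intro hle
      apply hh1
      apply mem_normalizer_of_forall
      intro x hx
      exact hle ⟨x, hx, rfl⟩
    have hsup : E ⊔ Eh = N1 := by
      have hle : E ⊔ Eh ≤ N1 := sup_le hEN1 hEhN1
      have h1 := Subgroup.relIndex_mul_relIndex _ _ _ (le_sup_left : E ≤ E ⊔ Eh) hle
      rw [hidx] at h1
      have h2 : E.relIndex (E ⊔ Eh) ∣ p := Dvd.intro _ h1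
      rcases (Nat.dvd_prime hp).1 h2 with h3 | h3
      · exact absurd (le_sup_right.trans (Subgroup.relIndex_eq_one.1 h3)) hnle
      · rw [h3] at h1
        have h4 : (E ⊔ Eh).relIndex N1 = 1 := by
          have := Nat.eq_of_mul_eq_mul_left hp.pos (h1.trans (mul_one p).symm)
          exact this
        exact le_antisymm hle (Subgroup.relIndex_eq_one.1 h4)
    set w := h * e * h⁻¹ with hw
    refine Subgroup.mem_inf.2 ⟨hEN1 hhe, ?_⟩
    have h1 : E ⊔ Eh ≤ centralizer {w} := by
      refine sup_le ?_ ?_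
      · intro a ha
        rw [Subgroup.mem_centralizer_singleton_iff]
        exact hcomm a ha w hhe
      · rintro _ ⟨a, ha, rfl⟩
        rw [Subgroup.mem_centralizer_singleton_iff]
        show h * a * h⁻¹ * w = w * (h * a * h⁻¹)
        rw [hw]
        calc h * a * h⁻¹ * (h * e * h⁻¹) = h * (a * e) * h⁻¹ := by group
          _ = h * (e * a) * h⁻¹ := by rw [hcomm a ha e he]
          _ = h * e * h⁻¹ * (h * a * h⁻¹) := by group
    rw [hsup] at h1
    rw [Subgroup.mem_centralizer_iff]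
    intro y hy
    have := h1 hy
    rw [Subgroup.mem_centralizer_singleton_iff] at this
    exact this
  -- Z0 ≠ E
  have hZ0ne : Z0 ≠ E := by
    intro h
    have h1 : N1 ≤ E := by
      intro x hx
      apply hcent
      rw [Subgroup.mem_centralizer_iff]
      intro y hy
      rw [← h] at hy
      have := (Subgroup.mem_inf.1 hy).2
      rw [Subgroup.mem_centralizer_iff] at this
      exact (this x hx).symm
    have h2 := Subgroup.relIndex_eq_one.2 h1
    rw [hidx] at h2
    exact hp.one_lt.ne' h2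
  -- the count
  let S : Finset (P × P) := fs N2 ×ˢ (fs E \ fs Z0)
  let f : P × P → P := fun x => x.1 * x.2 * x.1⁻¹
  have hmaps : ∀ a ∈ S, f a ∈ fs N1 \ fs Z0 := by
    rintro ⟨g, e⟩ ha
    rw [Finset.mem_product, Finset.mem_sdiff, mem_fs, mem_fs, mem_fs] at ha
    obtain ⟨hg, he, hez⟩ := ha
    rw [Finset.mem_sdiff, mem_fs, mem_fs]
    refine ⟨(hconjN1 g hg e).1 (hEN1 he), ?_⟩
    intro hz
    apply hez
    have := hZ0conj g⁻¹ (N2.inv_mem hg) _ hz
    have e1 : g⁻¹ * (g * e * g⁻¹) * g⁻¹⁻¹ = e := by group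
    rwa [e1] at this
  have hfib : ∀ b ∈ fs N1 \ fs Z0, (S.filter (fun a => f a = b)).card ≤ Nat.card N1 := by
    intro b _
    by_cases hemp : S.filter (fun a => f a = b) = ∅
    · rw [hemp]; simp
    · obtain ⟨⟨g0, e0⟩, h0⟩ := Finset.nonempty_iff_ne_empty.2 hemp
      rw [Finset.mem_filter, Finset.mem_product, Finset.mem_sdiff, mem_fs, mem_fs, mem_fs] at h0
      obtain ⟨⟨hg0, he0, he0z⟩, hb0⟩ := h0
      rw [← card_fs]
      apply Finset.card_le_card_of_injOn (fun a => g0⁻¹ * a.1)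
      · rintro ⟨g, e⟩ ha
        rw [Finset.mem_coe, Finset.mem_filter, Finset.mem_product, Finset.mem_sdiff, mem_fs, mem_fs,
          mem_fs] at ha
        obtain ⟨⟨hg, he, hez⟩, hb⟩ := ha
        rw [Finset.mem_coe, mem_fs]
        show g0⁻¹ * g ∈ N1
        by_contra hcon
        have hh : g0⁻¹ * g ∈ N2 := N2.mul_mem (N2.inv_mem hg0) hg
        have e1 : (g0⁻¹ * g) * e * (g0⁻¹ * g)⁻¹ = e0 := by
          have h1 : g * e * g⁻¹ = g0 * e0 * g0⁻¹ := hb.trans hb0.symm
          calc (g0⁻¹ * g) * e * (g0⁻¹ * g)⁻¹ = g0⁻¹ * (g * e * g⁻¹) * g0 := by group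
            _ = g0⁻¹ * (g0 * e0 * g0⁻¹) * g0 := by rw [h1]
            _ = e0 := by group
        have := hF3 _ hh hcon e he (e1 ▸ he0)
        rw [e1] at this
        exact he0z this
      · rintro ⟨g, e⟩ ha ⟨g', e'⟩ ha' hgg
        rw [Finset.mem_coe, Finset.mem_filter] at ha ha'
        have h1 : g = g' := mul_left_cancel hgg
        subst h1
        have h2 : g * e * g⁻¹ = g * e' * g⁻¹ := ha.2.trans ha'.2.symm
        have h3 : e = e' := by
          have := mul_right_cancel h2
          exact mul_left_cancel this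
        rw [h3]
  have hcount := Finset.card_le_mul_card_image_of_maps_to hmaps (Nat.card N1) hfib
  have hsubZE : fs Z0 ⊆ fs E := fun x hx => (mem_fs _ _).2 (hZ0E ((mem_fs _ _).1 hx))
  have hsubZN : fs Z0 ⊆ fs N1 := fun x hx => (mem_fs _ _).2 (hEN1 (hZ0E ((mem_fs _ _).1 hx)))
  rw [Finset.card_product, Finset.card_sdiff_of_subset hsubZE, Finset.card_sdiff_of_subset hsubZN,
    card_fs, card_fs, card_fs, card_fs] at hcount
  set m := N1.relIndex N2 with hm
  have hcN2 : Nat.card N1 * m = Nat.card N2 := by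
    have := Subgroup.relIndex_mul_relIndex ⊥ N1 N2 bot_le hN12
    rwa [Subgroup.relIndex_bot_left, Subgroup.relIndex_bot_left] at this
  have hcN1 : Nat.card E * p = Nat.card N1 := by
    have := Subgroup.relIndex_mul_relIndex ⊥ E N1 bot_le hEN1
    rwa [Subgroup.relIndex_bot_left, Subgroup.relIndex_bot_left, hidx] at this
  have hcE : 2 * Nat.card Z0 ≤ Nat.card E := by
    have h1 := Subgroup.relIndex_mul_relIndex ⊥ Z0 E bot_le hZ0E
    rw [Subgroup.relIndex_bot_left, Subgroup.relIndex_bot_left] at h1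
    have h2 : Z0.relIndex E ≠ 1 := by
      intro h
      exact hZ0ne (le_antisymm hZ0E (Subgroup.relIndex_eq_one.1 h))
    have h3 : Z0.relIndex E ≠ 0 := by
      intro h
      rw [h, mul_zero] at h1
      exact Nat.card_pos.ne h1
    have h4 : 2 ≤ Z0.relIndex E := by omega
    rw [← h1, mul_comm]
    exact Nat.mul_le_mul_left _ h4
  have hmain : m * (Nat.card E - Nat.card Z0) ≤ p * Nat.card E - Nat.card Z0 := by
    rw [← hcN2, mul_assoc] at hcount
    have := Nat.le_of_mul_le_mul_left hcount Nat.card_pos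
    rwa [← hcN1, mul_comm (Nat.card E) p] at this
  have hlt : m < p ^ 2 := arith_aux p m _ _ hp.two_le Nat.card_pos hcE hmain
  -- m is a power of p, not 1
  obtain ⟨k, hk⟩ : ∃ k, m = p ^ k := (hP.to_subgroup N2).index (N1.subgroupOf N2)
  have hm1 : m ≠ 1 := by
    intro h
    have h1 : N2 ≤ N1 := Subgroup.relIndex_eq_one.1 h
    haveI : Group.IsNilpotent P := hP.isNilpotent
    have h2 := Group.normalizerCondition_of_isNilpotent (G := P) N1 (lt_top_iff_ne_top.2 hne)
    exact absurd h1 (not_le_of_gt h2)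
  rw [hk] at hlt hm1 ⊢
  have hk2 : k < 2 := (Nat.pow_lt_pow_iff_right hp.one_lt).1 hlt
  have hk0 : k ≠ 0 := by
    rintro rfl
    exact hm1 (pow_zero p)
  have : k = 1 := by omega
  rw [this, pow_one]

end Cfsg.Agent.Lib.Helper12.Soft
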