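import Mathlib

set_option autoImplicit false

/-! Piece S2 of S3811 (soft subgroups): the nilpotency class. -/

namespace Cfsg.Agent.Lib.Helper12.Soft

open Subgroup
open scoped commutatorElement

theorem class_eq {M : Type*} [Group M] [Finite M] [Group.IsNilpotent M] (p : ℕ) [Fact p.Prime]
    (E : Subgroup M) (hcomm : ∀ a ∈ E, ∀ b ∈ E, a * b = b * a)
    (hZ : Subgroup.center M ≤ E)
    (hidx : ∀ L : Subgroup M, E ≤ L → L ≠ ⊤ →
      L.relIndex (Subgroup.normalizer (L : Set M)) = p)
    (φ : M ≃* M) (hgen : E ⊔ E.map φ.toMonoidHom = ⊤)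
    (i : ℕ) (hi : 1 ≤ i) (hEi : E.index = p ^ i) :
    Group.nilpotencyClass M = i + 1 := by
  have hp : p.Prime := Fact.out
  set γ : ℕ → Subgroup M := fun k => (⊤ : Subgroup M).lowerCentralSeries k with hγ
  have hγn : ∀ k, (γ k).Normal := fun k => by
    show ((⊤ : Subgroup M).lowerCentralSeries k).Normal
    infer_instance
  have hγs : ∀ k, γ (k + 1) = ⁅γ k, (⊤ : Subgroup M)⁆ := fun k => rfl
  have hγa : Antitone γ := Subgroup.lowerCentralSeries_antitone ⊤
  have hγφ : ∀ k, (γ k).map φ.toMonoidHom = γ k := by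
    intro k
    show ((⊤ : Subgroup M).lowerCentralSeries k).map φ.toMonoidHom = _
    rw [Subgroup.map_lowerCentralSeries, Subgroup.map_top_of_surjective _ φ.surjective]
  have hcm : ∀ k, ∀ x ∈ γ k, ∀ y : M, ⁅x, y⁆ ∈ γ (k + 1) := fun k x hx y =>
    Subgroup.commutator_mem_commutator hx (Subgroup.mem_top y)
  set L : ℕ → Subgroup M := fun k => E ⊔ γ k with hL
  have hLmono : ∀ k, L (k + 1) ≤ L k := fun k => sup_le_sup_left (hγa (Nat.le_succ k)) E
  -- (1)
  have hLnorm : ∀ k, L k ≤ normalizer (L (k + 1) : Set M) := by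
    intro k
    have key : ∀ x ∈ γ k, ∀ y ∈ L (k + 1), x * y * x⁻¹ ∈ L (k + 1) := by
      intro x hx y hy
      have h1 : x * y * x⁻¹ = ⁅x, y⁆ * y := by
        rw [commutatorElement_def]; group
      rw [h1]
      exact (L (k + 1)).mul_mem (Subgroup.mem_sup_right (hcm k x hx y)) hy
    refine sup_le ((le_sup_left : E ≤ L (k + 1)).trans Subgroup.le_normalizer) ?_
    intro x hx
    rw [Subgroup.mem_normalizer_iff]
    intro y
    constructor
    · exact key x hx y
    · intro h
      have := key x⁻¹ ((γ k).inv_mem hx) _ h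
      have e : x⁻¹ * (x * y * x⁻¹) * x⁻¹⁻¹ = y := by group
      rwa [e] at this
  -- (2)
  have hsub : ∀ (k : ℕ) (A : Subgroup M), (∀ a ∈ A, ∀ b ∈ A, a * b = b * a) →
      A ⊔ γ (k + 1) = A ⊔ γ k → ∀ x ∈ γ k, ∀ a ∈ A, ⁅x, a⁆ ∈ γ (k + 2) := by
    intro k A hA hEq x hx a ha
    haveI := hγn (k + 1)
    have hx' : x ∈ A ⊔ γ (k + 1) := hEq ▸ Subgroup.mem_sup_right hx
    obtain ⟨e, he, c, hc, rfl⟩ := Subgroup.mem_sup_of_normal_right.1 hx'
    have hea : e * a = a * e := hA e he a ha
    have h1 : ⁅e * c, a⁆ = e * ⁅c, a⁆ * e⁻¹ := by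
      rw [commutatorElement_def, commutatorElement_def]
      have h2 : a⁻¹ * e⁻¹ = e⁻¹ * a⁻¹ := by
        rw [← mul_inv_rev, ← mul_inv_rev, hea]
      calc e * c * a * (e * c)⁻¹ * a⁻¹ = e * c * a * c⁻¹ * (e⁻¹ * a⁻¹) := by group
        _ = e * c * a * c⁻¹ * (a⁻¹ * e⁻¹) := by rw [h2]
        _ = e * (c * a * c⁻¹ * a⁻¹) * e⁻¹ := by group
    rw [h1]
    exact (hγn (k + 2)).conj_mem _ (hcm (k + 1) c hc a) e
  -- (3)
  have hstall : ∀ k, L (k + 1) = L k → γ (k + 1) = ⊥ := by
    intro k hk
    have h1 := hsub k E hcomm hk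
    have hcomm' : ∀ a ∈ E.map φ.toMonoidHom, ∀ b ∈ E.map φ.toMonoidHom, a * b = b * a := by
      rintro _ ⟨a, ha, rfl⟩ _ ⟨b, hb, rfl⟩
      rw [← map_mul, ← map_mul, hcomm a ha b hb]
    have hk' : E.map φ.toMonoidHom ⊔ γ (k + 1) = E.map φ.toMonoidHom ⊔ γ k := by
      rw [← hγφ (k + 1), ← hγφ k, ← Subgroup.map_sup, ← Subgroup.map_sup]
      exact congrArg _ hk
    have h2 := hsub k _ hcomm' hk'
    let S : Subgroup M :=
      { carrier := {a | ∀ x ∈ γ k, ⁅x, a⁆ ∈ γ (k + 2)}
        one_mem' := by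
          intro x _
          rw [commutatorElement_one_right]
          exact (γ (k + 2)).one_mem
        mul_mem' := by
          intro a b ha hb x hx
          have e : ⁅x, a * b⁆ = ⁅x, a⁆ * (a * ⁅x, b⁆ * a⁻¹) := by
            simp only [commutatorElement_def]; group
          rw [e]
          exact (γ (k + 2)).mul_mem (ha x hx) ((hγn (k + 2)).conj_mem _ (hb x hx) a)
        inv_mem' := by
          intro a ha x hx
          have e : ⁅x, a⁻¹⁆ = a⁻¹ * ⁅x, a⁆⁻¹ * a⁻¹⁻¹ := by
            simp only [commutatorElement_def]; group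
          rw [e]
          exact (hγn (k + 2)).conj_mem _ ((γ (k + 2)).inv_mem (ha x hx)) a⁻¹ }
    have hS : S = ⊤ := by
      rw [eq_top_iff, ← hgen]
      exact sup_le (fun a ha x hx => h1 x hx a ha) (fun a ha x hx => h2 x hx a ha)
    have h3 : γ (k + 1) ≤ γ (k + 2) := by
      rw [hγs k, Subgroup.commutator_le]
      intro x hx a _
      have : a ∈ S := hS ▸ Subgroup.mem_top a
      exact this x hx
    have h4 : γ (k + 2) = γ (k + 1) := le_antisymm (hγa (Nat.le_succ (k + 1))) h3
    have h5 : ∀ j, γ (k + 1 + j) = γ (k + 1) := by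
      intro j
      induction j with
      | zero => rfl
      | succ j ih =>
        have : γ (k + 1 + (j + 1)) = ⁅γ (k + 1 + j), (⊤ : Subgroup M)⁆ := rfl
        rw [this, ih, ← hγs (k + 1)]
        exact h4
    have h6 : γ (Group.nilpotencyClass M) = ⊥ := Subgroup.lowerCentralSeries_nilpotencyClass
    rw [← h5 (Group.nilpotencyClass M), eq_bot_iff, ← h6]
    exact hγa (by omega)
  -- (4)
  have hindex : ∀ k, k ≤ i → (L k).index = p ^ k := by
    intro k
    induction k with
    | zero =>
      intro _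
      have : L 0 = ⊤ := by
        show E ⊔ (⊤ : Subgroup M) = ⊤
        simp
      rw [this, Subgroup.index_top, pow_zero]
    | succ k ih =>
      intro hk
      have ihk := ih (by omega)
      have hne1 : L k ≠ E := by
        intro h
        rw [h, hEi] at ihk
        have := Nat.pow_right_injective hp.two_le ihk
        omega
      have hne2 : L (k + 1) ≠ L k := by
        intro h
        have h1 := hstall k h
        apply hne1
        rw [← h]
        show E ⊔ γ (k + 1) = E
        rw [h1, sup_bot_eq]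
      have hnle : ¬ L k ≤ L (k + 1) := fun h => hne2 (le_antisymm (hLmono k) h)
      have hne3 : L (k + 1) ≠ ⊤ := by
        intro h
        apply hnle
        rw [h]
        exact le_top
      have h1 := hidx (L (k + 1)) le_sup_left hne3
      have h2 := Subgroup.relIndex_mul_relIndex _ _ _ (hLmono k) (hLnorm k)
      rw [h1] at h2
      have h3 : (L (k + 1)).relIndex (L k) ∣ p := Dvd.intro _ h2
      have h4 : (L (k + 1)).relIndex (L k) = p := by
        rcases (Nat.dvd_prime hp).1 h3 with h | h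
        · exact absurd (Subgroup.relIndex_eq_one.1 h) hnle
        · exact h
      have h5 := Subgroup.relIndex_mul_index (hLmono k)
      rw [h4, ihk] at h5
      rw [← h5, pow_succ, mul_comm]
  -- (5)
  have hLi : L i = E := by
    have h1 := Subgroup.relIndex_mul_index (le_sup_left : E ≤ L i)
    rw [hindex i le_rfl, hEi] at h1
    have h2 : E.relIndex (L i) = 1 := by
      have hpos : 0 < p ^ i := Nat.pow_pos hp.pos
      exact Nat.eq_of_mul_eq_mul_right hpos (by rw [h1, one_mul])
    exact le_antisymm (Subgroup.relIndex_eq_one.1 h2) le_sup_left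
  have hγiE : γ i ≤ E := by
    rw [← hLi]; exact le_sup_right
  have hγiE' : γ i ≤ E.map φ.toMonoidHom := by
    rw [← hγφ i]; exact Subgroup.map_mono hγiE
  have hle : Group.nilpotencyClass M ≤ i + 1 := by
    rw [← Subgroup.lowerCentralSeries_eq_bot_iff_nilpotencyClass_le]
    show γ (i + 1) = ⊥
    rw [hγs i, Subgroup.commutator_eq_bot_iff_le_centralizer]
    intro z hz
    have h1 : E ⊔ E.map φ.toMonoidHom ≤ centralizer {z} := by
      refine sup_le ?_ ?_
      · intro a ha
        rw [Subgroup.mem_centralizer_singleton_iff]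
        exact hcomm a ha z (hγiE hz)
      · intro a ha
        rw [Subgroup.mem_centralizer_singleton_iff]
        obtain ⟨a', ha', rfl⟩ := ha
        obtain ⟨z', hz', rfl⟩ := hγiE' hz
        rw [← map_mul, ← map_mul, hcomm a' ha' z' hz']
    rw [hgen] at h1
    rw [Subgroup.mem_centralizer_iff]
    intro y _
    have := h1 (Subgroup.mem_top y)
    rw [Subgroup.mem_centralizer_singleton_iff] at this
    exact this
  -- (6)
  have hge : ¬ Group.nilpotencyClass M ≤ i := by
    intro h
    rw [← Subgroup.lowerCentralSeries_eq_bot_iff_nilpotencyClass_le] at h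
    obtain ⟨j, rfl⟩ : ∃ j, i = j + 1 := ⟨i - 1, by omega⟩
    have h1 : ⁅γ j, (⊤ : Subgroup M)⁆ = ⊥ := h
    rw [Subgroup.commutator_eq_bot_iff_le_centralizer, Subgroup.coe_top, Subgroup.centralizer_univ] at h1
    have h2 : L j = E := by
      show E ⊔ γ j = E
      exact sup_eq_left.2 (h1.trans hZ)
    have h3 := hindex j (by omega)
    rw [h2, hEi] at h3
    have := Nat.pow_right_injective hp.two_le h3
    omega
  omega

end Cfsg.Agent.Lib.Helper12.Soft
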