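import Mathlib

set_option autoImplicit false

/-! # The TI lemma (piece P1 of the S5259 farm) -/

namespace Cfsg.Agent.Lib.Helper12.TI

variable {V : Type*} [Group V]

/-- the "transvection group" of a subgroup `Z'` inside `L` -/
def KK (L : Subgroup (MulAut V)) (Z' : Subgroup V) : Subgroup (MulAut V) where
  carrier := {k | k ∈ L ∧ (∀ z ∈ Z', k z = z) ∧ ∀ v : V, k v * v⁻¹ ∈ Z'}
  mul_mem' := by
    rintro a b ⟨ha, ha1, ha2⟩ ⟨hb, hb1, hb2⟩
    refine ⟨L.mul_mem ha hb, ?_, ?_⟩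
    · intro z hz
      rw [MulAut.mul_apply, hb1 z hz, ha1 z hz]
    · intro v
      rw [MulAut.mul_apply]
      have : a (b v) * v⁻¹ = (a (b v) * (b v)⁻¹) * (b v * v⁻¹) := by group
      rw [this]
      exact Z'.mul_mem (ha2 _) (hb2 _)
  one_mem' := ⟨L.one_mem, fun _ _ => rfl, fun v => by simp⟩
  inv_mem' := by
    rintro a ⟨ha, ha1, ha2⟩
    refine ⟨L.inv_mem ha, ?_, ?_⟩
    · intro z hz
      rw [MulAut.inv_apply, MulEquiv.symm_apply_eq, ha1 z hz]
    · intro v
      have h := ha2 (a⁻¹ v)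
      rw [MulAut.apply_inv_self] at h
      have : a⁻¹ v * v⁻¹ = (v * (a⁻¹ v)⁻¹)⁻¹ := by group
      rw [this]
      exact Z'.inv_mem h

lemma mem_KK {L : Subgroup (MulAut V)} {Z' : Subgroup V} {k : MulAut V} :
    k ∈ KK L Z' ↔ k ∈ L ∧ (∀ z ∈ Z', k z = z) ∧ ∀ v : V, k v * v⁻¹ ∈ Z' := Iff.rfl

/-- powers of elements of `KK` -/
lemma KK_pow {L : Subgroup (MulAut V)} {Z' : Subgroup V} {k : MulAut V} (hk : k ∈ KK L Z')
    (n : ℕ) (v : V) : (k ^ n) v = (k v * v⁻¹) ^ n * v := by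
  induction n with
  | zero => simp
  | succ n ih =>
    rw [pow_succ', MulAut.mul_apply, ih, map_mul, map_pow, hk.2.1 _ (hk.2.2 v), pow_succ]
    group

lemma KK_isPGroup [Finite V] (p : ℕ) [Fact p.Prime] (hV : IsPGroup p V)
    (L : Subgroup (MulAut V)) (Z' : Subgroup V) : IsPGroup p (KK L Z') := by
  obtain ⟨j, hj⟩ := IsPGroup.iff_card.1 hV
  intro k
  refine ⟨j, ?_⟩
  ext v
  have := KK_pow k.2 (p ^ j) v
  simp only [Subgroup.coe_pow, Subgroup.coe_one, MulAut.one_apply]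
  rw [this, ← hj, pow_card_eq_one', one_mul]

/-- the translate of `Z` by `l` -/
def TT (Z : Subgroup V) (l : MulAut V) : Subgroup V := Z.map l.toMonoidHom

lemma mem_TT {Z : Subgroup V} {l : MulAut V} {x : V} : x ∈ TT Z l ↔ l⁻¹ x ∈ Z := by
  unfold TT
  rw [Subgroup.mem_map_equiv]
  rfl

lemma TT_one (Z : Subgroup V) : TT Z 1 = Z := by
  ext x; rw [mem_TT]; simp

lemma card_TT (Z : Subgroup V) (l : MulAut V) : Nat.card (TT Z l) = Nat.card Z :=
  Subgroup.card_map_of_injective l.injective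

lemma card_TT_inf (Z : Subgroup V) (a b : MulAut V) :
    Nat.card (TT Z (a * b) ⊓ TT Z a : Subgroup V) = Nat.card (TT Z b ⊓ Z : Subgroup V) := by
  have : (TT Z (a * b) ⊓ TT Z a : Subgroup V) = (TT Z b ⊓ Z : Subgroup V).map a.toMonoidHom := by
    ext x
    rw [Subgroup.mem_map_equiv, Subgroup.mem_inf, Subgroup.mem_inf, mem_TT, mem_TT, mem_TT,
      mul_inv_rev, MulAut.mul_apply]
    rfl
  rw [this]
  exact Subgroup.card_map_of_injective a.injective

lemma KK_TT {L : Subgroup (MulAut V)} {Z : Subgroup V} {m : MulAut V} (hm : m ∈ L)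
    (k : MulAut V) : k ∈ KK L (TT Z m) ↔ m⁻¹ * k * m ∈ KK L Z := by
  rw [mem_KK, mem_KK]
  constructor
  · rintro ⟨h1, h2, h3⟩
    refine ⟨L.mul_mem (L.mul_mem (L.inv_mem hm) h1) hm, ?_, ?_⟩
    · intro z hz
      rw [MulAut.mul_apply, MulAut.mul_apply, h2 (m z) (by rw [mem_TT]; simpa using hz)]
      simp
    · intro v
      have := h3 (m v)
      rw [mem_TT, map_mul, map_inv] at this
      simpa [MulAut.mul_apply] using this
  · rintro ⟨h1, h2, h3⟩
    refine ⟨?_, ?_, ?_⟩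
    · have := L.mul_mem (L.mul_mem hm h1) (L.inv_mem hm)
      have e : m * (m⁻¹ * k * m) * m⁻¹ = k := by group
      rwa [e] at this
    · intro z hz
      rw [mem_TT] at hz
      have := h2 _ hz
      rw [MulAut.mul_apply, MulAut.mul_apply, MulAut.apply_inv_self] at this
      have h4 := congrArg m this
      simpa using h4
    · intro v
      have := h3 (m⁻¹ v)
      rw [mem_TT, map_mul, map_inv]
      simpa [MulAut.mul_apply] using this

theorem ti_lemma {V : Type*} [Group V] [Finite V] (hcomm : ∀ a b : V, a * b = b * a)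
    (p : ℕ) [Fact p.Prime] (hV : IsPGroup p V)
    (L U : Subgroup (MulAut V)) (hUL : U ≤ L)
    (hmax : ∀ P : Subgroup (MulAut V), IsPGroup p P → U ≤ P → P ≤ L → P ≤ U)
    (Z : Subgroup V)
    (ha1 : ∀ u ∈ U, ∀ z ∈ Z, u z = z) (ha2 : ∀ u ∈ U, ∀ v : V, u v * v⁻¹ ∈ Z)
    (hb : ∀ u ∈ U, u ≠ 1 → ∀ v : V, u v = v → v ∈ Z)
    (hc : ∀ v : V, v ∉ Z → ∀ z ∈ Z, ∃ u ∈ U, u v = v * z)
    (Q : Subgroup V) (hQZ : Q ≤ Z) (hQ1 : Q ≠ ⊥) (hQL : ∀ l ∈ L, ∀ x ∈ Q, l x ∈ Q) :
    ∀ l ∈ L, ∀ u ∈ U, l * u * l⁻¹ ∈ U := by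
  classical
  have A0 : KK L Z = U := by
    apply le_antisymm
    · apply hmax _ (KK_isPGroup p hV L Z)
      · intro u hu
        exact ⟨hUL hu, ha1 u hu, ha2 u hu⟩
      · intro k hk; exact hk.1
    · intro u hu
      exact ⟨hUL hu, ha1 u hu, ha2 u hu⟩
  have hUp : IsPGroup p U := A0 ▸ KK_isPGroup p hV L Z
  have N : ∀ m ∈ L, TT Z m = Z → ∀ k, (m⁻¹ * k * m ∈ U ↔ k ∈ U) := by
    intro m hm hT k
    have := KK_TT (Z := Z) hm k
    rw [hT, A0] at this
    exact this.symm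
  have heqZ : ∀ l, TT Z l ≤ Z → TT Z l = Z := by
    intro l hl
    exact Subgroup.eq_of_le_of_card_ge hl (by rw [card_TT])
  have claim : ∀ l ∈ L, TT Z l = Z ∨ TT Z l ⊓ Z = ⊥ := by
    by_contra hcon
    push Not at hcon
    obtain ⟨l0, hl0, hl0Z, hl0b⟩ := hcon
    have : Nonempty {l : MulAut V // l ∈ L ∧ TT Z l ≠ Z} := ⟨⟨l0, hl0, hl0Z⟩⟩
    obtain ⟨⟨l, hl, hlZ⟩, hlmax⟩ := Finite.exists_max
      (fun l : {l : MulAut V // l ∈ L ∧ TT Z l ≠ Z} => Nat.card (TT Z l.1 ⊓ Z : Subgroup V))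
    set W : Subgroup V := TT Z l ⊓ Z with hW
    have hWb : W ≠ ⊥ := by
      intro h
      have h1 := hlmax ⟨l0, hl0, hl0Z⟩
      simp only at h1
      rw [h, Subgroup.card_bot] at h1
      apply hl0b
      exact (Subgroup.card_le_one_iff_eq_bot _).1 h1
    obtain ⟨v, hvT, hvZ⟩ : ∃ v, v ∈ TT Z l ∧ v ∉ Z := by
      by_contra hcon
      push Not at hcon
      exact hlZ (heqZ l hcon)
    obtain ⟨w0, hw0, hw01⟩ : ∃ w0 ∈ W, w0 ≠ 1 := by
      by_contra hcon
      push Not at hcon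
      exact hWb ((Subgroup.eq_bot_iff_forall _).2 hcon)
    obtain ⟨u, hu, huv⟩ := hc v hvZ w0 hw0.2
    have hu1 : u ≠ 1 := by
      intro h
      rw [h, MulAut.one_apply] at huv
      exact hw01 (by simpa using huv.symm)
    set u' := l⁻¹ * u * l with hu'
    have hu'L : u' ∈ L := L.mul_mem (L.mul_mem (L.inv_mem hl) (hUL hu)) hl
    have hTu' : TT Z u' = Z := by
      by_contra hne
      have h1 := hlmax ⟨u', hu'L, hne⟩
      simp only at h1
      rw [← card_TT_inf Z l u'] at h1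
      have e : l * u' = u * l := by rw [hu']; group
      rw [e] at h1
      have hle : W ≤ TT Z (u * l) ⊓ TT Z l := by
        intro w hw
        refine Subgroup.mem_inf.2 ⟨?_, hw.1⟩
        rw [mem_TT, mul_inv_rev, MulAut.mul_apply]
        have h2 : u⁻¹ w = w := by
          rw [MulAut.inv_apply, MulEquiv.symm_apply_eq, ha1 u hu w hw.2]
        rw [h2]
        exact mem_TT.1 hw.1
      have heq := Subgroup.eq_of_le_of_card_ge hle h1
      have hmem : v * w0 ∈ TT Z (u * l) ⊓ TT Z l := by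
        refine Subgroup.mem_inf.2 ⟨?_, (TT Z l).mul_mem hvT hw0.1⟩
        rw [← huv, mem_TT, mul_inv_rev, MulAut.mul_apply, MulAut.inv_apply_self]
        exact mem_TT.1 hvT
      rw [← heq] at hmem
      apply hvZ
      have := Z.mul_mem hmem.2 (Z.inv_mem hw0.2)
      simpa using this
    -- `u'` normalises `U` and is a `p`-element, so lies in `U`
    have hu'U : u' ∈ U := by
      have hN := N u' hu'L hTu'
      have hp1 : IsPGroup p (Subgroup.zpowers u') := by
        obtain ⟨j, hj⟩ := hUp ⟨u, hu⟩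
        have hj' : u ^ p ^ j = 1 := by
          have := congrArg Subtype.val hj
          simpa using this
        have hj'' : u' ^ p ^ j = 1 := by
          have : u' = l⁻¹ * u * (l⁻¹)⁻¹ := by rw [hu', inv_inv]
          rw [this, conj_pow, hj']; group
        intro y
        obtain ⟨y, hy⟩ := y
        obtain ⟨n, rfl⟩ := Subgroup.mem_zpowers_iff.1 hy
        refine ⟨j, ?_⟩
        ext1
        simp only [Subgroup.coe_pow, Subgroup.coe_one]
        rw [← zpow_natCast, ← zpow_mul, mul_comm, zpow_mul, zpow_natCast, hj'', one_zpow]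
      have hnorm : Subgroup.zpowers u' ≤ Subgroup.normalizer U := by
        rw [Subgroup.zpowers_le, Subgroup.mem_normalizer_iff]
        intro k
        have := hN (u' * k * u'⁻¹)
        have e : u'⁻¹ * (u' * k * u'⁻¹) * u' = k := by group
        rw [e] at this
        exact this
      have hp2 := IsPGroup.to_sup_of_normal_right' hp1 hUp hnorm
      have h3 := hmax _ hp2 le_sup_right (sup_le (by rw [Subgroup.zpowers_le]; exact hu'L) hUL)
      exact h3 (le_sup_left (a := Subgroup.zpowers u') (Subgroup.mem_zpowers u'))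
    apply hlZ
    apply heqZ
    intro x hx
    apply hb u hu hu1
    have h1 := ha1 u' hu'U _ (mem_TT.1 hx)
    rw [hu', MulAut.mul_apply, MulAut.mul_apply, MulAut.apply_inv_self] at h1
    have h2 := congrArg l h1
    simpa using h2
  intro l hl u hu
  have hT : TT Z l = Z := by
    rcases claim l hl with h | h
    · exact h
    · exfalso
      apply hQ1
      rw [eq_bot_iff, ← h]
      intro x hx
      refine Subgroup.mem_inf.2 ⟨?_, hQZ hx⟩
      rw [mem_TT]
      exact hQZ (hQL _ (L.inv_mem hl) x hx)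
  rw [← N l hl hT]
  have e : l⁻¹ * (l * u * l⁻¹) * l = u := by group
  rw [e]; exact hu

end Cfsg.Agent.Lib.Helper12.TI
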