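import Mathlib
import Cfsg.Agent.Lib.Helper15.Ward.Defs
import Cfsg.Agent.Lib.Helper77.WardD
import Cfsg.Agent.Lib.Helper77.WardE3
import Cfsg.Agent.Lib.Helper77.WardE4
import Cfsg.Agent.Lib.Helper73.WardE1
import Cfsg.Agent.Lib.Helper73.WardE2

/-!
# Ward's theorem (S3796), piece H: `star_amb`, relative to the statement of piece G (`star`)
-/

set_option autoImplicit false

namespace Cfsg.Agent.Lib.Helper12.Ward

open Subgroup Cfsg.Agent.Lib.Helper88 Cfsg.Agent.Lib.Helper15.Ward

universe u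

/-- the statement of piece G (`star`) -/
def StarStmt : Prop :=
  ∀ {V : Type u} [CommGroup V] [Finite V] {p r : ℕ} [Fact p.Prime] [Fact r.Prime] (_hV : IsPGroup r V)
    (X A E : Subgroup (MulAut V))
    (_hAX : A ≤ normalizer (X : Set (MulAut V))) (_hAc : ∀ x ∈ A, ∀ y ∈ A, x * y = y * x)
    (_hAp : ∀ x ∈ A, x ^ p = 1) (_hA2 : Nat.card A = p ^ 2) (_hpX : ¬ p ∣ Nat.card X)
    (_hfix : X ⊓ centralizer (A : Set (MulAut V)) = ⊥)
    (_hnil : ∀ a ∈ A, a ≠ 1 → Group.IsNilpotent ↥(X ⊓ centralizer {a}))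
    (_hcent : ∀ a ∈ A, a ≠ 1 → ∀ y ∈ X ⊓ centralizer {a}, ¬ r ∣ orderOf y → ∀ v : V, a v = v → y v = v)
    (_hOr : ∀ R : Subgroup (MulAut V), R ≤ X → X ≤ normalizer (R : Set (MulAut V)) →
      A ≤ normalizer (R : Set (MulAut V)) → IsPGroup r R → R = ⊥)
    (_hEX : E ≤ X) (_hXE : X ≤ normalizer (E : Set (MulAut V)))
    (_hAE : A ≤ normalizer (E : Set (MulAut V)))
    (_hE : ∃ k, E.lowerCentralSeries k = ⊥) (_hXE' : ∃ k, X.lowerCentralSeries k ≤ E),
    ∃ k, X.lowerCentralSeries k = ⊥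

theorem star_amb_of (hstar : StarStmt.{u}) {Γ : Type u} [Group Γ] [Finite Γ] {p : ℕ} [Fact p.Prime]
    {G A : Subgroup Γ} (h : Hyp p G A) (hA2 : Nat.card A = p ^ 2)
    (V : Subgroup Γ) [V.Normal] (hVG : V ≤ G) (hV1 : V ≠ ⊥)
    (hmin : ∀ M : Subgroup Γ, M.Normal → M ≤ V → M = ⊥ ∨ M = V)
    (E : Subgroup Γ) (hEn : E.Normal) (hEG : E ≤ G)
    (hE : ∃ k, E.lowerCentralSeries k ≤ centralizer (V : Set Γ))
    (hGE : ∃ k, G.lowerCentralSeries k ≤ E) :
    ∃ k, G.lowerCentralSeries k ≤ centralizer (V : Set Γ) := by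
  classical
  have hGn : G.Normal := h.normal
  let c : Γ →* MulAut V := MulAut.conjNormal
  have hc_apply : ∀ (g : Γ) (v : V), ((c g v : V) : Γ) = g * v * g⁻¹ := fun g v => rfl
  have hker : c.ker = centralizer (V : Set Γ) := by
    ext g
    rw [MonoidHom.mem_ker, Subgroup.mem_centralizer_iff]
    constructor
    · intro hg v hv
      have h1 := hc_apply g ⟨v, hv⟩
      rw [hg] at h1
      have h2 : v = g * v * g⁻¹ := h1
      calc v * g = g * v * g⁻¹ * g := by rw [← h2]
        _ = g * v := by group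
    · intro hg
      ext v
      rw [hc_apply, ← hg v v.2]
      simp
  suffices hs : ∃ k, (G.map c).lowerCentralSeries k = ⊥ by
    obtain ⟨k, hk⟩ := hs
    refine ⟨k, ?_⟩
    rw [← Subgroup.map_lowerCentralSeries, Subgroup.map_eq_bot_iff, hker] at hk
    exact hk
  have hsolG : Group.IsSolvable G := h.sol
  have hsolV : Group.IsSolvable V :=
    Group.isSolvable_of_isSolvable_injective (Subgroup.inclusion_injective hVG)
  obtain ⟨hVc, r, hr, hVr⟩ := Cfsg.Agent.Lib.Helper73.Ward.minimal_normal_structure V hsolV hV1 hmin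
  haveI : Fact r.Prime := ⟨hr⟩
  have hpG : ¬ p ∣ Nat.card G := Cfsg.Agent.Lib.Helper77.Ward.Hyp.not_dvd h
  have hApg : IsPGroup p A := Cfsg.Agent.Lib.Helper22.isPGroup_of_pow_eq_one h.exp
  have hNG : normalizer (G : Set Γ) = ⊤ := Subgroup.normalizer_eq_top G
  have hNE : normalizer (E : Set Γ) = ⊤ := Subgroup.normalizer_eq_top E
  -- centralizers of single elements of `A`
  have hcenta : ∀ a ∈ A, G.map c ⊓ centralizer {c a} = (G ⊓ centralizer {a}).map c := by
    intro a ha
    have h1 := Cfsg.Agent.Lib.Helper73.Ward.map_inf_centralizer_map' (p := p) c G (zpowers a)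
      (Cfsg.Agent.Lib.Helper22.isPGroup_zpowers (h.exp a ha)) hpG (by rw [hNG]; exact le_top)
    rw [MonoidHom.map_zpowers, Cfsg.Agent.Lib.Helper22.centralizer_zpowers,
      Cfsg.Agent.Lib.Helper22.centralizer_zpowers] at h1
    exact h1
  have hnila : ∀ a ∈ A, a ≠ 1 → ∃ n, ((G ⊓ centralizer {a}).map c).lowerCentralSeries n = ⊥ := by
    intro a ha ha1
    have h1 := Cfsg.Agent.Lib.Helper77.Ward.isNilpotent_centralizer h a ha ha1
    obtain ⟨n, hn⟩ := (Subgroup.isNilpotent_iff_lowerCentralSeries _).1 h1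
    exact ⟨n, by rw [← Subgroup.map_lowerCentralSeries, hn, Subgroup.map_bot]⟩
  by_cases hcase : ∃ a ∈ A, a ≠ 1 ∧ c a = 1
  · obtain ⟨a, ha, ha1, hca⟩ := hcase
    have h1 := hcenta a ha
    have h2 : centralizer ({c a} : Set (MulAut V)) = ⊤ := by
      rw [hca, eq_top_iff]
      intro x _
      rw [Subgroup.mem_centralizer_singleton_iff]
      simp
    rw [h2, inf_top_eq] at h1
    rw [h1]
    exact hnila a ha ha1
  · push Not at hcase
    letI instV : CommGroup ↥V :=
      { (inferInstance : Group ↥V) with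
        mul_comm := fun x y => Subtype.ext (hVc x x.2 y y.2) }
    have hcardA : Nat.card (A.map c) = p ^ 2 := by
      rw [← hA2]
      symm
      apply Nat.card_congr
      refine Equiv.ofBijective (c.subgroupMap A) ⟨?_, c.subgroupMap_surjective A⟩
      rw [injective_iff_map_eq_one]
      intro a ha
      by_contra hne
      have h1 : (a : Γ) ≠ 1 := fun h => hne (Subtype.ext h)
      apply hcase a a.2 h1
      exact congrArg Subtype.val ha
    refine @hstar ↥V instV _ p r _ _ ?_ (G.map c) (A.map c) (E.map c) ?_ ?_ ?_ hcardA ?_ ?_ ?_ ?_ ?_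
      (Subgroup.map_mono hEG) ?_ ?_ ?_ ?_
    · -- V is an r-group
      intro v
      refine ⟨1, ?_⟩
      rw [pow_one]
      exact Subtype.ext (hVr v v.2)
    · calc A.map c ≤ (normalizer (G : Set Γ)).map c := Subgroup.map_mono (by rw [hNG]; exact le_top)
        _ ≤ _ := Subgroup.le_normalizer_map c
    · rintro _ ⟨x, hx, rfl⟩ _ ⟨y, hy, rfl⟩
      rw [← map_mul, ← map_mul, h.comm x hx y hy]
    · rintro _ ⟨x, hx, rfl⟩
      rw [← map_pow, h.exp x hx, map_one]
    · intro hd
      exact hpG (hd.trans (Subgroup.card_map_dvd G c))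
    · have h1 := Cfsg.Agent.Lib.Helper73.Ward.map_inf_centralizer_map' (p := p) c G A hApg hpG
        (by rw [hNG]; exact le_top)
      rw [h1, h.fix, Subgroup.map_bot]
    · rintro _ ⟨a, ha, rfl⟩ ha1
      have ha1' : a ≠ 1 := by
        rintro rfl
        exact ha1 (map_one c)
      rw [hcenta a ha]
      exact (Subgroup.isNilpotent_iff_lowerCentralSeries _).2 (hnila a ha ha1')
    · rintro _ ⟨a, ha, rfl⟩ ha1 y hy hry v hv
      have ha1' : a ≠ 1 := by
        rintro rfl
        exact ha1 (map_one c)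
      rw [hcenta a ha] at hy
      obtain ⟨g, hg, rfl⟩ := hy
      have hvH : (v : Γ) ∈ G ⊓ centralizer {a} := by
        refine Subgroup.mem_inf.2 ⟨hVG v.2, ?_⟩
        rw [Subgroup.mem_centralizer_singleton_iff]
        have h1 : a * v * a⁻¹ = v := by
          rw [← hc_apply, hv]
        calc (v : Γ) * a = a * v * a⁻¹ * a := by rw [h1]
          _ = a * v := by group
      have h2 := Cfsg.Agent.Lib.Helper77.Ward.commute_of_nilpotent (G ⊓ centralizer {a}) V
        (Cfsg.Agent.Lib.Helper77.Ward.isNilpotent_centralizer h a ha ha1') hr hVr g hg hry v v.2 hvH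
      apply Subtype.ext
      rw [hc_apply, h2]
      group
    · intro R _ hXR hAR hR
      exact Cfsg.Agent.Lib.Helper77.Ward.eq_bot_of_normal_rgroup V G A h.sup hV1 hmin hr hVr R hXR hAR hR
    · calc G.map c ≤ (normalizer (E : Set Γ)).map c := Subgroup.map_mono (by rw [hNE]; exact le_top)
        _ ≤ _ := Subgroup.le_normalizer_map c
    · calc A.map c ≤ (normalizer (E : Set Γ)).map c := Subgroup.map_mono (by rw [hNE]; exact le_top)
        _ ≤ _ := Subgroup.le_normalizer_map c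
    · obtain ⟨k, hk⟩ := hE
      refine ⟨k, ?_⟩
      rw [← Subgroup.map_lowerCentralSeries, Subgroup.map_eq_bot_iff, hker]
      exact hk
    · obtain ⟨k, hk⟩ := hGE
      refine ⟨k, ?_⟩
      rw [← Subgroup.map_lowerCentralSeries]
      exact Subgroup.map_mono hk

end Cfsg.Agent.Lib.Helper12.Ward
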