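import Mathlib
import Cfsg.Agent.Lib.Helper12.WardH0
import Cfsg.Agent.Lib.Helper59.WardG

/-!
# Ward's theorem (S3796), piece H: `star_amb`
-/

set_option autoImplicit false

namespace Cfsg.Agent.Lib.Helper12.Ward

open Subgroup Cfsg.Agent.Lib.Helper88 Cfsg.Agent.Lib.Helper15.Ward

theorem star_amb {Γ : Type*} [Group Γ] [Finite Γ] {p : ℕ} [Fact p.Prime] {G A : Subgroup Γ}
    (h : Hyp p G A) (hA2 : Nat.card A = p ^ 2)
    (V : Subgroup Γ) [V.Normal] (hVG : V ≤ G) (hV1 : V ≠ ⊥)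
    (hmin : ∀ M : Subgroup Γ, M.Normal → M ≤ V → M = ⊥ ∨ M = V)
    (E : Subgroup Γ) (hEn : E.Normal) (hEG : E ≤ G)
    (hE : ∃ k, E.lowerCentralSeries k ≤ centralizer (V : Set Γ))
    (hGE : ∃ k, G.lowerCentralSeries k ≤ E) :
    ∃ k, G.lowerCentralSeries k ≤ centralizer (V : Set Γ) :=
  star_amb_of (fun hV X A E => Cfsg.Agent.Lib.Helper59.Ward.star hV X A E) h hA2 V hVG hV1 hmin E hEn hEG
    hE hGE

end Cfsg.Agent.Lib.Helper12.Ward
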